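import Groth.Agent.VBCurve.K706.Secant
import Groth.Agent.VBCurve.K553.SubDefs2
import Groth.Prelude.Def_Omega2

/-!
# Maximal line subbundles of a bundle of rank two on a curve (for S15230, node SUB-MAX)
-/

set_option autoImplicit false
set_option linter.unusedVariables false
set_option linter.unusedSectionVars false
universe u
open CategoryTheory CategoryTheory.Limits AlgebraicGeometry

namespace K278.SubMax

open Groth.Agent MonoidalCategory K707.Base K707.Deg K707.Slope K707.Semi K706.InvTens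
open scoped Groth.Agent.Dcoh.MonCat
open Groth.Agent.VarietyA.DegRank

section gen

variable {k : Type u} [Field k] {X : Scheme.{u}} [X.Over (Spec (CommRingCat.of k))]
  [IsIntegral X] [IsProper (X ↘ (Spec (CommRingCat.of k)))]

theorem isInvertible_of_rk {M : X.Modules} (h : FlatMod.IsFinLocFree M) (h1 : rk M = 1) : PicF.IsInvertible M := by
  have h2 := isFinLocFreeOfRank_rk h
  rw [h1] at h2
  exact Ega2.QCohLocal.isFinLocFreeOfRank_one_iff.mp h2

/-- A line subbundle of maximal degree has an invertible quotient. -/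
theorem exists_quotient (C : Crv k X) (E : X.Modules) (hE : FlatMod.IsFinLocFreeOfRank 2 E) (d : ℤ)
    (hmax : ∀ (M : X.Modules) (m : M ⟶ E), PicF.IsInvertible M → Mono m → Curv2.deg k X M 1 ≤ d)
    (L : X.Modules) (l : L ⟶ E) (hL : PicF.IsInvertible L) (hl : Mono l) (hd : Curv2.deg k X L 1 = d) :
    ∃ (Q : X.Modules) (q : E ⟶ Q) (w : l ≫ q = 0), PicF.IsInvertible Q ∧ (ShortComplex.mk l q w).ShortExact ∧
      Curv2.deg k X Q 1 = Curv2.deg k X E 2 - d := by
  have hL1 := K706.VStab.rank_one hL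
  have hLc := isCoh_of_rank hL1
  have hEc := isCoh_of_rank hE
  obtain ⟨G', Q, a, j, q, w, ha, haj, hS, hG', hQ, e1, e2, e3, e4⟩ := exists_saturation C l hLc hEc
  have hrL := rk_of_rank hL1
  have hrE := rk_of_rank hE
  have hj : Mono j := hS.mono_f
  have hG'v := vb_of_mono C j hG' (isFinLocFree_of_rank hE)
  have hG'i : PicF.IsInvertible G' := isInvertible_of_rk hG'v (by omega)
  have hQi : PicF.IsInvertible Q := isInvertible_of_rk hQ (by omega)
  have h1 := hmax G' j hG'i hj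
  rw [← dg_of_rank k (K706.VStab.rank_one hG'i)] at h1
  have hdL := dg_of_rank k hL1
  have hdE := dg_of_rank k hE
  have hdQ := dg_of_rank k (K706.VStab.rank_one hQi)
  have ha' : IsIso a := isIso_of_mono C a hLc hG' (by omega) (by omega)
  have w' : l ≫ q = 0 := by rw [← haj, Category.assoc, w, comp_zero]
  refine ⟨Q, q, w', hQi, ?_, by omega⟩
  let φ : ShortComplex.mk j q w ≅ ShortComplex.mk l q w' :=
    ShortComplex.isoMk (asIso a).symm (Iso.refl _) (Iso.refl _) (by simp [← haj]) (by simp)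
  exact ShortComplex.shortExact_of_iso φ hS

/-- Dividing by an invertible module. -/
theorem exists_div {X : Scheme.{u}} {P : X.Modules} (hP : PicF.IsInvertible P) {A B : X.Modules} (f : A ⊗ P ⟶ B ⊗ P)
    (hf : f ≠ 0) : ∃ g : A ⟶ B, g ≠ 0 := by
  obtain ⟨P', hP', ⟨e⟩⟩ := exists_inv hP
  refine ⟨(unten e A).inv ≫ f ▷ P' ≫ (unten e B).hom, fun h => hf ?_⟩
  apply whiskerRight_inj hP'
  rw [← cancel_epi (unten e A).inv, ← cancel_mono (unten e B).hom, Category.assoc, h]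
  have h0 : (0 : A ⊗ P ⟶ B ⊗ P) ▷ P' = 0 := Functor.map_zero (DCoh.tensorRightMod P') _ _
  rw [h0, comp_zero, zero_comp]

theorem whiskerRight_zero {X : Scheme.{u}} {A B P : X.Modules} : (0 : A ⟶ B) ▷ P = 0 :=
  Functor.map_zero (DCoh.tensorRightMod P) _ _

theorem eq_zero_of_whiskerRight {X : Scheme.{u}} {P : X.Modules} (hP : PicF.IsInvertible P) {A B : X.Modules} {f : A ⟶ B}
    (h : f ▷ P = 0) : f = 0 :=
  whiskerRight_inj hP (h.trans whiskerRight_zero.symm)

theorem eq_zero_of_whiskerLeft {X : Scheme.{u}} {P : X.Modules} (hP : PicF.IsInvertible P) {A B : X.Modules} {f : A ⟶ B}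
    (h : P ◁ f = 0) : f = 0 := by
  apply eq_zero_of_whiskerRight hP
  rw [← cancel_epi (β_ P A).hom, ← BraidedCategory.braiding_naturality_right, h, zero_comp, comp_zero]

end gen

section alg

variable {k : Type u} [Field k] [IsAlgClosed k] {X : Scheme.{u}} [X.Over (Spec (CommRingCat.of k))]
  [IsIntegral X] [IsProper (X ↘ (Spec (CommRingCat.of k)))] [Smooth (X ↘ (Spec (CommRingCat.of k)))]
  (hdim : topologicalKrullDim X = 1)

include hdim

/-- There are no maps `R → Ω` if `H^1(R) = 0`. -/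
theorem hom_omega_eq_zero {R : X.Modules} (hR : PicF.IsInvertible R) (h : Subsingleton (Coh.HH X R 1))
    (φ : R ⟶ Omega.sheaf (X ↘ (Spec (CommRingCat.of k)))) : φ = 0 := by
  obtain ⟨w, t, hw, ht⟩ := K706.Serre.exists_pair k X hdim
  obtain ⟨h2, h3⟩ := S1612.result k X ⟨inferInstance, inferInstance, inferInstance, hdim⟩
    (VarietyA.CurveFin.finrank_h0_structure k X)
  have hΩ : PicF.IsInvertible (Omega.sheaf (X ↘ (Spec (CommRingCat.of k)))) := CurvesB.OmegaInv.isInvertible_omega _ hdim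
  obtain ⟨e2⟩ := K706.Serre.nonempty_iso_w hdim hw ht hΩ h3 (by
    have h4 := K704.Base.deg_eq_one k X hdim (Omega.sheaf (X ↘ (Spec (CommRingCat.of k))))
    rw [h3, h2] at h4
    omega)
  obtain ⟨ψ, -, hψ⟩ := ht R (Ega2.QCohLocal.isQCoh_of_isInvertible hR) 0
  have h5 : ∀ χ : R ⟶ w, χ = ψ := fun χ => hψ χ (fun x => by
    have hx : x = 0 := Subsingleton.elim _ _
    subst hx
    simp)
  rw [← cancel_mono e2.hom, zero_comp]
  exact (h5 _).trans (h5 0).symm

theorem hom_eq_zero_of_H1 {P Q R : X.Modules} (hP : PicF.IsInvertible P) (hQ : PicF.IsInvertible Q)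
    (hR : PicF.IsInvertible R) (e : R ⊗ Q ≅ P ⊗ Omega.sheaf (X ↘ (Spec (CommRingCat.of k))))
    (h : Subsingleton (Coh.HH X R 1)) (ψ : P ⟶ Q) : ψ = 0 := by
  by_contra hψ
  obtain ⟨g, hg⟩ := exists_div hP (R ◁ ψ ≫ e.hom ≫ (β_ P _).hom) (fun h0 => hψ (by
    apply eq_zero_of_whiskerLeft hR
    rw [← cancel_mono (e.hom ≫ (β_ P _).hom), zero_comp]
    exact h0))
  exact hg (hom_omega_eq_zero hdim hR h g)

variable {g : ℕ} (hgen : Curv2.genus k X = g)

include hgen

theorem subsingleton_H1 {L Q R : X.Modules} (hL : PicF.IsInvertible L) (hQ : PicF.IsInvertible Q)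
    (hR : PicF.IsInvertible R) (e : R ⊗ Q ≅ L ⊗ Omega.sheaf (X ↘ (Spec (CommRingCat.of k))))
    (hd : Curv2.deg k X Q 1 = Curv2.deg k X L 1 + (g - 1))
    (h0 : ∀ ψ : Q ⟶ L ⊗ Omega.sheaf (X ↘ (Spec (CommRingCat.of k))), ψ = 0) : Subsingleton (Coh.HH X R 1) := by
  have hΩ : PicF.IsInvertible (Omega.sheaf (X ↘ (Spec (CommRingCat.of k)))) := CurvesB.OmegaInv.isInvertible_omega _ hdim
  have h1 : Curv2.deg k X R 1 = g - 1 := by
    have h2 := K706.Secant.deg_inv_tensor (k := k) hdim hR hQ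
    have h3 := K706.Secant.deg_inv_tensor (k := k) hdim hL hΩ
    have h4 := K708.Deg.deg_iso (n := 1) k e
    have h5 := K706.Secant.deg_K (k := k) hdim hgen (Iso.refl _)
    have h6 : Curv2.deg k X (R ⊗ Q) 1 = Curv2.deg k X (CohB1.tensorMod R Q) 1 := rfl
    have h7 : Curv2.deg k X (L ⊗ Omega.sheaf (X ↘ (Spec (CommRingCat.of k)))) 1 =
      Curv2.deg k X (CohB1.tensorMod L (Omega.sheaf (X ↘ (Spec (CommRingCat.of k))))) 1 := rfl
    rw [h6, h7, h2, h3] at h4
    omega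
  have hrr := K706.Secant.rr (k := k) hdim hgen R
  have h8 : Module.finrank k (Coh.HH X R 0) = 0 := by
    by_contra hne
    obtain ⟨s, hs⟩ := K706.Secant.exists_sect (k := k) (N := R) (by omega)
    apply hs
    apply eq_zero_of_whiskerRight hQ
    rw [← cancel_epi (λ_ Q).inv, ← cancel_mono e.hom, Category.assoc, comp_zero, zero_comp]
    exact h0 ((λ_ Q).inv ≫ s ▷ Q ≫ e.hom)
  have hf : Module.Finite k (Coh.HH X R 1) := S0002.result k X R (K707.Base.isCoh_of_rank (K706.VStab.rank_one hR)) 1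
  have h9 : Module.finrank k (Coh.HH X R 1) = 0 := by omega
  exact Module.finrank_zero_iff.mp h9

omit hgen in
theorem very_stable (C : Crv k X) (E : X.Modules) (hE : FlatMod.IsFinLocFreeOfRank 2 E)
    {K : X.Modules} (eK : K ≅ Omega.sheaf (X ↘ (Spec (CommRingCat.of k))))
    (hvs : ∀ α : E ⟶ CohB1.tensorMod E K,
        α ≫ (CohB1.sheafifyMod X).map
          (MonoidalCategoryStruct.whiskerRight (C := CohB1.PMod X) α.val (CohB1.toPMod K)) = 0 → α = 0)
    {L Q : X.Modules} (hL : PicF.IsInvertible L) (hQ : PicF.IsInvertible Q)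
    (l : L ⟶ E) (q : E ⟶ Q) (w : l ≫ q = 0) (hS : (ShortComplex.mk l q w).ShortExact)
    (ψ : Q ⟶ L ⊗ Omega.sheaf (X ↘ (Spec (CommRingCat.of k)))) : ψ = 0 := by
  by_contra hψ
  have hK : PicF.IsInvertible K := K706.Secant.inv_K hdim eK
  have hm : Mono l := hS.mono_f
  have he : Epi q := hS.epi_g
  have hl : l ≠ 0 := K704.InvHom.ne_zero_of_mono hL l
  let t : E ⟶ L ⊗ K := q ≫ ψ ≫ L ◁ eK.inv
  have ht : t ≠ 0 := by
    intro h
    apply hψ
    rw [← cancel_epi q, ← cancel_mono (L ◁ eK.inv), comp_zero, zero_comp, Category.assoc]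
    exact h
  refine K706.VStab.comp_ne_zero C hK hL (K707.Base.isFinLocFree_of_rank hE) hvs l hl t ht ?_
  change l ≫ q ≫ ψ ≫ L ◁ eK.inv = 0
  rw [← Category.assoc, w, zero_comp]

end alg

section twist

open K553.Sub

variable {S : Scheme.{u}} {C : Over S}

/-- `M(-∑ x)` only depends on the isomorphism class of `M`. -/
theorem nonempty_twp_iso {M N : C.left.Modules} (e : M ≅ N) : ∀ x : List (pt S ⟶ C), Nonempty (twp M x ≅ twp N x)
  | [] => ⟨(Scheme.Modules.pullback (𝟙 C : C ⟶ C).left).mapIso e⟩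
  | a :: x => by
    obtain ⟨i⟩ := nonempty_twp_iso e x
    exact ⟨whiskerLeftIso (D (cst a) (𝟙 C)) i⟩

/-- `M(-∑ x) ⊗ P = (M ⊗ P)(-∑ x)` -/
theorem nonempty_twp_tensor (M P : C.left.Modules) : ∀ x : List (pt S ⟶ C), Nonempty (twp M x ⊗ P ≅ twp (M ⊗ P) x)
  | [] => ⟨whiskerRightIso ((Scheme.Modules.pullbackId C.left).app M) P ≪≫ ((Scheme.Modules.pullbackId C.left).app (M ⊗ P)).symm⟩
  | a :: x => by
    obtain ⟨i⟩ := nonempty_twp_tensor M P x
    exact ⟨α_ (D (cst a) (𝟙 C)) (twp M x) P ≪≫ whiskerLeftIso (D (cst a) (𝟙 C)) i⟩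

/-- `M(-∑ y)(-∑ x) = M(-∑ (x ++ y))` -/
theorem nonempty_twp_append (M : C.left.Modules) (y : List (pt S ⟶ C)) :
    ∀ x : List (pt S ⟶ C), Nonempty (twp (twp M y) x ≅ twp M (x ++ y))
  | [] => ⟨(Scheme.Modules.pullbackId C.left).app (twp M y)⟩
  | a :: x => by
    obtain ⟨i⟩ := nonempty_twp_append M y x
    exact ⟨whiskerLeftIso (D (cst a) (𝟙 C)) i⟩

/-- `M ⊗ P(-∑ x) = (M ⊗ P)(-∑ x)` -/
theorem nonempty_tensor_twp (M P : C.left.Modules) (x : List (pt S ⟶ C)) : Nonempty (M ⊗ twp P x ≅ twp (M ⊗ P) x) := by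
  obtain ⟨i⟩ := nonempty_twp_tensor P M x
  obtain ⟨j⟩ := nonempty_twp_iso (β_ P M) x
  exact ⟨β_ M (twp P x) ≪≫ i ≪≫ j⟩

theorem van_double {A B L Q N W : C.left.Modules} (hQ : PicF.IsInvertible Q)
    (eN : N ⊗ A ≅ W ⊗ B) (x : List (pt S ⟶ C)) (eA : A ≅ twp Q x) (eL : L ≅ twp B x)
    (h0 : ∀ ψ : Q ⟶ L ⊗ W, ψ = 0)
    (v : Coh.structureModule C.left ⟶ N) (hv : Van N (x ++ x) v) : v = 0 := by
  obtain ⟨w, rfl⟩ := hv
  obtain ⟨i1⟩ := nonempty_twp_append N x x
  obtain ⟨i2⟩ := nonempty_twp_tensor (twp N x) Q x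
  obtain ⟨i3⟩ := nonempty_twp_tensor N Q x
  obtain ⟨i4⟩ := nonempty_tensor_twp N Q x
  obtain ⟨i5⟩ := nonempty_tensor_twp W B x
  obtain ⟨i6⟩ := nonempty_twp_iso (i3 ≪≫ i4.symm ≪≫ whiskerLeftIso N eA.symm ≪≫ eN) x
  let e : twp N (x ++ x) ⊗ Q ≅ L ⊗ W :=
    whiskerRightIso i1.symm Q ≪≫ i2 ≪≫ i6 ≪≫ i5.symm ≪≫ whiskerLeftIso W eL.symm ≪≫ β_ W L
  have hw : w = 0 := by
    apply eq_zero_of_whiskerRight hQ
    rw [← cancel_epi (λ_ Q).inv, ← cancel_mono e.hom, Category.assoc, comp_zero, zero_comp]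
    exact h0 ((λ_ Q).inv ≫ w ▷ Q ≫ e.hom)
  rw [hw, zero_comp]

end twist

end K278.SubMax

namespace K553.Sub

section field

variable {k : Type u} [Field k] [IsAlgClosed k] (C : Over (Spec (CommRingCat.of k)))
  [IsIntegral C.left] [IsProper C.hom] [Smooth C.hom] (hdim : topologicalKrullDim C.left = 1)

include hdim in
/-- An invertible submodule of maximal degree is saturated. -/
theorem exists_quotient (E : C.left.Modules) (hE : FlatMod.IsFinLocFreeOfRank 2 E) (d : ℤ)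
    (hmax : ∀ (M : C.left.Modules) (m : M ⟶ E), PicF.IsInvertible M → Mono m → Curv2.deg k C.left M 1 ≤ d)
    (L : C.left.Modules) (l : L ⟶ E) (hL : PicF.IsInvertible L) (hl : Mono l) (hd : Curv2.deg k C.left L 1 = d) :
    ∃ (Q : C.left.Modules) (q : E ⟶ Q) (w : l ≫ q = 0), PicF.IsInvertible Q ∧ (ShortComplex.mk l q w).ShortExact ∧
      Curv2.deg k C.left Q 1 = Curv2.deg k C.left E 2 - d := by
  have h1 : IsProper (C.left ↘ Spec (CommRingCat.of k)) := inferInstanceAs (IsProper C.hom)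
  have h2 : Smooth (C.left ↘ Spec (CommRingCat.of k)) := inferInstanceAs (Smooth C.hom)
  exact K278.SubMax.exists_quotient (K707.Base.Crv.of_smooth hdim) E hE d hmax L l hL hl hd

include hdim in
/-- Very stability: for a saturated `L` of degree `(deg E - (g-1))/2` there are no nonzero maps `Q → L ⊗ ω`, and
`H^1(L⁻¹ ⊗ Q) = 0`. -/
theorem very_stable {g : ℕ} (hgen : Curv2.genus k C.left = g) (E : C.left.Modules) (hE : FlatMod.IsFinLocFreeOfRank 2 E)
    {K : C.left.Modules} (eK : K ≅ Omega.sheaf C.hom)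
    (hvs : ∀ α : E ⟶ CohB1.tensorMod E K,
        α ≫ (CohB1.sheafifyMod C.left).map
          (MonoidalCategoryStruct.whiskerRight (C := CohB1.PMod C.left) α.val (CohB1.toPMod K)) = 0 → α = 0)
    {L Q : C.left.Modules} (hL : PicF.IsInvertible L) (hQ : PicF.IsInvertible Q)
    (l : L ⟶ E) (q : E ⟶ Q) (w : l ≫ q = 0) (hS : (ShortComplex.mk l q w).ShortExact)
    (hd : Curv2.deg k C.left Q 1 = Curv2.deg k C.left L 1 + (g - 1)) :
    (∀ ψ : Q ⟶ CohB1.tensorMod L (Omega.sheaf C.hom), ψ = 0) ∧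
    (∀ R : C.left.Modules, PicF.IsInvertible R →
      Nonempty (CohB1.tensorMod R Q ≅ CohB1.tensorMod L (Omega.sheaf C.hom)) → Subsingleton (Coh.HH C.left R 1)) := by
  have h1 : IsProper (C.left ↘ Spec (CommRingCat.of k)) := inferInstanceAs (IsProper C.hom)
  have h2 : Smooth (C.left ↘ Spec (CommRingCat.of k)) := inferInstanceAs (Smooth C.hom)
  have h3 : ∀ ψ : Q ⟶ CohB1.tensorMod L (Omega.sheaf C.hom), ψ = 0 := fun ψ =>
    K278.SubMax.very_stable hdim (K707.Base.Crv.of_smooth hdim) E hE eK hvs hL hQ l q w hS ψ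
  exact ⟨h3, fun R hR ⟨e⟩ => K278.SubMax.subsingleton_H1 hdim hgen hL hQ hR e hd h3⟩

include hdim in
/-- Serre duality: if `R ≅ P ⊗ ω ⊗ Q⁻¹` has `H^1(R) = 0` then `Hom(P, Q) = 0`. -/
theorem hom_eq_zero_of_H1 {P Q R : C.left.Modules} (hP : PicF.IsInvertible P) (hQ : PicF.IsInvertible Q)
    (hR : PicF.IsInvertible R) (e : CohB1.tensorMod R Q ≅ CohB1.tensorMod P (Omega.sheaf C.hom))
    (h : Subsingleton (Coh.HH C.left R 1)) (ψ : P ⟶ Q) : ψ = 0 := by
  have h1 : IsProper (C.left ↘ Spec (CommRingCat.of k)) := inferInstanceAs (IsProper C.hom)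
  have h2 : Smooth (C.left ↘ Spec (CommRingCat.of k)) := inferInstanceAs (Smooth C.hom)
  exact K278.SubMax.hom_eq_zero_of_H1 hdim hP hQ hR e h ψ

include hdim in
/-- The double condition: if `A ≅ Q(-∑ x)` and `L ≅ B(-∑ x)` and `Hom(Q, L ⊗ ω) = 0` then no nonzero section of
`N = A⁻¹ ω B` vanishes on `2 ∑ x`. -/
theorem van_double {A B L Q N : C.left.Modules} (hA : PicF.IsInvertible A) (hB : PicF.IsInvertible B)
    (hL : PicF.IsInvertible L) (hQ : PicF.IsInvertible Q) (hN : PicF.IsInvertible N)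
    (eN : CohB1.tensorMod N A ≅ CohB1.tensorMod (Omega.sheaf C.hom) B)
    (x : List (pt (Spec (CommRingCat.of k)) ⟶ C)) (eA : A ≅ twp Q x) (eL : L ≅ twp B x)
    (h0 : ∀ ψ : Q ⟶ CohB1.tensorMod L (Omega.sheaf C.hom), ψ = 0)
    (v : Coh.structureModule C.left ⟶ N) (hv : Van N (x ++ x) v) : v = 0 :=
  K278.SubMax.van_double hQ eN x eA eL h0 v hv

end field

end K553.Sub
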